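import Cfsg.Agent.Transfer.Frobenius
import Cfsg.Agent.FGSA.Nilpotent
import Cfsg.Prelude.Def_SolvableStructure

/-!
Groups in which every maximal subgroup of order divisible by a given prime is nilpotent.
-/

set_option autoImplicit false
set_option linter.style.haveILetI false
set_option linter.unusedSectionVars false

namespace CfsgLib.MaxNilpotent

open Subgroup CfsgLib.Fusion

universe u

variable {G : Type u} [Group G] [Finite G]

theorem commute_in {H : Subgroup G} [Group.IsNilpotent H] {a b : G} (ha : a ∈ H) (hb : b ∈ H)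
    (hab : (orderOf a).Coprime (orderOf b)) : a * b = b * a :=
  congrArg Subtype.val (CfsgLib.FGSA.commute_of_coprime_orderOf (⟨a, ha⟩ : H) ⟨b, hb⟩
    (by rwa [← orderOf_coe, ← orderOf_coe])).eq

theorem nilpotent_of_le {H L : Subgroup G} (h : H ≤ L) (hL : Group.IsNilpotent L) : Group.IsNilpotent H := by
  haveI := hL
  exact Group.isNilpotent_congr (subgroupOfEquivOfLe h) |>.1 inferInstance

/-- Proper subgroups of order divisible by `p` are nilpotent. -/
theorem nilpotent_of_dvd {p : ℕ}
    (h : ∀ M : Subgroup G, IsCoatom M → p ∣ Nat.card M → Group.IsNilpotent M)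
    (L : Subgroup G) (hL : L ≠ ⊤) (hpL : p ∣ Nat.card L) : Group.IsNilpotent L := by
  obtain ⟨M, hM, hLM⟩ := (eq_top_or_exists_le_coatom L).resolve_left hL
  exact nilpotent_of_le hLM (h M hM (hpL.trans (card_dvd_of_le hLM)))

theorem coprime_orders {p : ℕ} (hp : p.Prime) {M P : Subgroup G} (hP : IsPGroup p P)
    (hM : ¬ p ∣ Nat.card M) {a b : G} (ha : a ∈ P) (hb : b ∈ M) :
    (orderOf a).Coprime (orderOf b) := by
  haveI : Fact p.Prime := ⟨hp⟩
  obtain ⟨i, hi⟩ := IsPGroup.iff_orderOf.1 hP ⟨a, ha⟩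
  rw [← orderOf_coe] at hi
  change orderOf a = p ^ i at hi
  rw [hi]
  refine Nat.Coprime.pow_left _ (hp.coprime_iff_not_dvd.2 fun h => hM ?_)
  refine h.trans ?_
  rw [← Nat.card_zpowers]
  exact card_dvd_of_le (zpowers_le.2 hb)

theorem complement_data {p : ℕ} [Fact p.Prime] {M Q : Subgroup G} [Q.Normal]
    (hQ : IsPGroup p Q) (hM : ¬ p ∣ Nat.card M) (hsup : M ⊔ Q = ⊤) : M.IsComplement' Q := by
  have hp := (Fact.out : p.Prime)
  refine isComplement'_of_disjoint_and_mul_eq_univ (disjoint_iff_inf_le.2 fun x hx => ?_) ?_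
  · have h : (orderOf x).Coprime (orderOf x) := coprime_orders hp hQ hM hx.2 hx.1
    rw [Nat.coprime_self, orderOf_eq_one_iff] at h
    exact mem_bot.2 h
  · rw [← Subgroup.mul_normal, hsup, coe_top]

theorem forward_of_normal {p : ℕ} [Fact p.Prime]
    (h : ∀ M : Subgroup G, IsCoatom M → p ∣ Nat.card M → Group.IsNilpotent M)
    (hn : ¬ Group.IsNilpotent G) (hpG : p ∣ Nat.card G) (P : Sylow p G)
    (hPn : (P : Subgroup G).Normal) (M : Subgroup G) (hM : IsCoatom M) (hpM : ¬ p ∣ Nat.card M) :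
    Cfsg.IsMinimalNonNilpotent G ∨
        ∃ Z K : Subgroup G, Z.Normal ∧ K.Normal ∧ Z ⊓ K = ⊥ ∧ Z ⊔ K = ⊤ ∧ Nat.card Z = p ∧
          Cfsg.IsMinimalNonNilpotent K ∧ ¬ p ∣ Nat.card K := by
  have hp := (Fact.out : p.Prime)
  haveI := hPn
  have hmin : ∀ R : Subgroup G, R.Normal → R ≤ (P : Subgroup G) → R ≠ ⊥ → R = P := by
    intro R hR hRP hR1
    haveI := hR
    have hRp : IsPGroup p R := P.2.to_le hRP
    have hsup : M ⊔ R = ⊤ := hM.2 _ (lt_of_le_of_ne le_sup_left fun e => hR1 ?_)
    · have hc := (complement_data hRp hpM hsup).card_mul_card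
      have hPc : Nat.card P ∣ Nat.card R := by
        refine Nat.Coprime.dvd_of_dvd_mul_left ?_ (hc ▸ card_subgroup_dvd_card (P : Subgroup G))
        obtain ⟨i, hi⟩ := IsPGroup.iff_card.1 P.2
        rw [hi]
        exact Nat.Coprime.pow_left _ (hp.coprime_iff_not_dvd.2 hpM)
      exact eq_of_le_of_card_ge hRP (Nat.le_of_dvd Nat.card_pos hPc)
    · refine (eq_bot_iff_forall _).2 fun x hx => ?_
      have h : (orderOf x).Coprime (orderOf x) := coprime_orders hp hRp hpM hx (e ▸ mem_sup_right hx)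
      rwa [Nat.coprime_self, orderOf_eq_one_iff] at h
  have hPne : (P : Subgroup G) ≠ ⊥ := P.ne_bot_of_dvd_card hpG
  have hPM : M.IsComplement' (P : Subgroup G) := by
    refine complement_data P.2 hpM (hM.2 _ (lt_of_le_of_ne le_sup_left fun e => hpM ?_))
    exact (P.dvd_card_of_dvd_card hpG).trans (card_dvd_of_le (e ▸ le_sup_right))
  -- proper subgroups of M centralize P
  have hcent : ∀ L : Subgroup G, L ≤ M → L ≠ M → ∀ a ∈ L, ∀ b ∈ (P : Subgroup G), a * b = b * a := by
    intro L hLM hne a ha b hb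
    have hprop : L ⊔ (P : Subgroup G) ≠ ⊤ := by
      intro e
      refine hne (eq_of_le_of_card_ge hLM ?_)
      have hd : Disjoint L (P : Subgroup G) := hPM.disjoint.mono_left hLM
      have hc := (isComplement'_of_disjoint_and_mul_eq_univ hd (by rw [← Subgroup.mul_normal, e, coe_top])).card_mul_card
      rw [← hPM.card_mul_card] at hc
      exact (Nat.eq_of_mul_eq_mul_right Nat.card_pos hc).ge
    haveI := nilpotent_of_dvd h _ hprop ((P.dvd_card_of_dvd_card hpG).trans (card_dvd_of_le le_sup_right))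
    exact commute_in (mem_sup_left ha) (mem_sup_right hb) (coprime_orders hp P.2 hpM hb (hLM ha)).symm
  by_cases hall : ∀ a ∈ M, ∀ b ∈ (P : Subgroup G), a * b = b * a
  · right
    haveI : Nontrivial (P : Subgroup G) := (Subgroup.nontrivial_iff_ne_bot _).2 hPne
    haveI hcz := (P.2).center_nontrivial
    have hcenter : (center (P : Subgroup G)).map (P : Subgroup G).subtype = P := by
      refine hmin _ inferInstance (map_subtype_le _) fun e => ?_
      rw [map_eq_bot_iff_of_injective _ (Subgroup.subtype_injective _)] at e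
      exact (Subgroup.nontrivial_iff_ne_bot _).1 hcz e
    have hab : ∀ a ∈ (P : Subgroup G), ∀ b ∈ (P : Subgroup G), a * b = b * a := by
      intro a ha b hb
      rw [← hcenter] at hb
      obtain ⟨b, hb, rfl⟩ := hb
      exact congrArg Subtype.val (mem_center_iff.1 hb ⟨a, ha⟩)
    have hPc : (P : Subgroup G) ≤ center G := by
      intro b hb
      rw [mem_center_iff]
      intro g
      have hg : g ∈ M ⊔ (P : Subgroup G) := by rw [hPM.sup_eq_top]; exact mem_top g
      rw [← SetLike.mem_coe, Subgroup.mul_normal] at hg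
      obtain ⟨m, hm, c, hc, rfl⟩ := hg
      change m * c * b = b * (m * c)
      rw [mul_assoc, hab c hc b hb, ← mul_assoc, hall m hm b hb, mul_assoc]
    obtain ⟨z, hz⟩ := exists_prime_orderOf_dvd_card' p (P.dvd_card_of_dvd_card hpG)
    have hzn : (zpowers (z : G)).Normal := ⟨fun n hn g => by
      rw [mem_center_iff.1 (hPc ((zpowers_le.2 z.2) hn)) g, mul_inv_cancel_right]; exact hn⟩
    have hPz := hmin _ hzn (zpowers_le.2 z.2) (by
      rw [ne_eq, zpowers_eq_bot]
      intro e
      rw [← orderOf_coe, e, orderOf_one] at hz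
      exact hp.ne_one hz.symm)
    have hMn : M.Normal := ⟨fun m hm g => by
      have hg : g ∈ M ⊔ (P : Subgroup G) := by rw [hPM.sup_eq_top]; exact mem_top g
      rw [← SetLike.mem_coe, Subgroup.mul_normal] at hg
      obtain ⟨a, ha, c, hc, rfl⟩ := hg
      have e : a * c * m * (a * c)⁻¹ = a * (c * m) * c⁻¹ * a⁻¹ := by group
      rw [e, ← hall m hm c hc, show a * (m * c) * c⁻¹ * a⁻¹ = a * m * a⁻¹ by group]
      exact mul_mem (mul_mem ha hm) (inv_mem ha)⟩
    refine ⟨P, M, hPn, hMn, ?_, ?_, ?_, ⟨fun hnil => hn ?_, fun L hL => ?_⟩, hpM⟩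
    · rw [inf_comm]; exact hPM.disjoint.eq_bot
    · rw [sup_comm]; exact hPM.sup_eq_top
    · rw [← hPz, Nat.card_zpowers, orderOf_coe, hz]
    · haveI := hnil
      haveI : Group.IsNilpotent (G ⧸ (P : Subgroup G)) := by
        refine Group.nilpotent_of_surjective ((QuotientGroup.mk' (P : Subgroup G)).comp M.subtype) fun q => ?_
        obtain ⟨g, rfl⟩ := QuotientGroup.mk_surjective q
        have hg : g ∈ M ⊔ (P : Subgroup G) := by rw [hPM.sup_eq_top]; exact mem_top g
        rw [← SetLike.mem_coe, Subgroup.mul_normal] at hg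
        obtain ⟨m, hm, c, hc, rfl⟩ := hg
        exact ⟨⟨m, hm⟩, (QuotientGroup.mk_mul_of_mem m hc).symm⟩
      exact Subgroup.isNilpotent_of_ker_le_center (QuotientGroup.mk' (P : Subgroup G))
        (by rw [QuotientGroup.ker_mk']; exact hPc)
    · set L' := L.map M.subtype with hL'
      have hlt : L' ≠ M := fun e => hL (map_injective M.subtype_injective
        (by rw [← hL', e, ← MonoidHom.range_eq_map, range_subtype]))
      have hprop : L' ⊔ (P : Subgroup G) ≠ ⊤ := by
        intro e
        refine hlt (eq_of_le_of_card_ge (map_subtype_le _) ?_)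
        have hd : Disjoint L' (P : Subgroup G) := hPM.disjoint.mono_left (map_subtype_le _)
        have hc := (isComplement'_of_disjoint_and_mul_eq_univ hd (by rw [← Subgroup.mul_normal, e, coe_top])).card_mul_card
        rw [← hPM.card_mul_card] at hc
        exact (Nat.eq_of_mul_eq_mul_right Nat.card_pos hc).ge
      haveI := nilpotent_of_le (le_sup_left : L' ≤ L' ⊔ (P : Subgroup G))
        (nilpotent_of_dvd h _ hprop ((P.dvd_card_of_dvd_card hpG).trans (card_dvd_of_le le_sup_right)))
      exact Group.isNilpotent_congr (L.equivMapOfInjective _ M.subtype_injective) |>.2 this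
  · left
    push Not at hall
    obtain ⟨x, hx, b, hb, hxb⟩ := hall
    have hcyc : zpowers x = M := by
      by_contra hne
      exact hxb (hcent _ (zpowers_le.2 hx) hne x (mem_zpowers x) b hb)
    refine ⟨hn, fun L hL => ?_⟩
    by_cases hpL : p ∣ Nat.card L
    · exact nilpotent_of_dvd h L hL hpL
    have hMab : ∀ a ∈ M, ∀ c ∈ M, a * c = c * a := by
      intro a ha c hc
      rw [← hcyc] at ha hc
      obtain ⟨i, rfl⟩ := ha
      obtain ⟨j, rfl⟩ := hc
      exact ((Commute.refl x).zpow_zpow i j).eq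
    haveI : IsMulCommutative L := ⟨⟨fun u v => by
      refine Subtype.ext ?_
      have hdis : ∀ w ∈ L, w ∈ (P : Subgroup G) → w = 1 := fun w hw hwP => by
        have h : (orderOf w).Coprime (orderOf w) := coprime_orders hp P.2 hpL hwP hw
        rwa [Nat.coprime_self, orderOf_eq_one_iff] at h
      refine mul_inv_eq_one.1 (hdis _ (L.mul_mem (L.mul_mem u.2 v.2) (L.inv_mem (L.mul_mem v.2 u.2))) ?_)
      rw [← QuotientGroup.eq_one_iff]
      have hq : ∀ g : G, ∃ m ∈ M, (g : G ⧸ (P : Subgroup G)) = (m : G ⧸ (P : Subgroup G)) := by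
        intro g
        have hg : g ∈ M ⊔ (P : Subgroup G) := by rw [hPM.sup_eq_top]; exact mem_top g
        rw [← SetLike.mem_coe, Subgroup.mul_normal] at hg
        obtain ⟨m, hm, c, hc, rfl⟩ := hg
        exact ⟨m, hm, QuotientGroup.mk_mul_of_mem m hc⟩
      obtain ⟨m, hm, e1⟩ := hq u
      obtain ⟨m', hm', e2⟩ := hq v
      simp only [Subgroup.coe_mul, QuotientGroup.mk_mul, QuotientGroup.mk_inv, e1, e2]
      rw [← QuotientGroup.mk_mul, ← QuotientGroup.mk_mul, hMab m hm m' hm', mul_inv_cancel]⟩⟩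
    exact @CommGroup.isNilpotent L { (inferInstance : Group L) with mul_comm := fun u v => IsMulCommutative.is_comm.comm u v }

theorem forward {p : ℕ} (hp : p.Prime) (hpG : p ∣ Nat.card G)
    (h : ∀ M : Subgroup G, IsCoatom M → p ∣ Nat.card M → Group.IsNilpotent M)
    (hn : ¬ Group.IsNilpotent G) :
    Cfsg.IsMinimalNonNilpotent G ∨
        ∃ Z K : Subgroup G, Z.Normal ∧ K.Normal ∧ Z ⊓ K = ⊥ ∧ Z ⊔ K = ⊤ ∧ Nat.card Z = p ∧
          Cfsg.IsMinimalNonNilpotent K ∧ ¬ p ∣ Nat.card K := by
  haveI : Fact p.Prime := ⟨hp⟩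
  by_cases hall : ∀ M : Subgroup G, IsCoatom M → p ∣ Nat.card M
  · refine Or.inl ⟨hn, fun L hL => ?_⟩
    obtain ⟨M, hM, hLM⟩ := (eq_top_or_exists_le_coatom L).resolve_left hL
    exact nilpotent_of_le hLM (h M hM (hall M hM))
  push Not at hall
  obtain ⟨M, hM, hpM⟩ := hall
  obtain ⟨P⟩ : Nonempty (Sylow p G) := inferInstance
  by_cases hPn : (P : Subgroup G).Normal
  · exact forward_of_normal h hn hpG P hPn M hM hpM
  left
  -- Frobenius gives a normal p-complement
  have hLC : LocalCondition p G := by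
    intro Q hQ g hg hg'
    by_cases hQ1 : Q = ⊥
    · subst hQ1
      exact mem_centralizer_iff.2 fun q hq => by
        rw [SetLike.mem_coe, mem_bot] at hq
        simp [hq]
    have hne : normalizer (Q : Set G) ≠ ⊤ := by
      intro e
      haveI : Q.Normal := normalizer_eq_top_iff.1 e
      apply hPn
      have hsup : M ⊔ Q = ⊤ := hM.2 _ (lt_of_le_of_ne le_sup_left fun e' => hQ1 ((eq_bot_iff_forall _).2
        fun x hx => by
          have h : (orderOf x).Coprime (orderOf x) := coprime_orders hp hQ hpM hx (e' ▸ mem_sup_right hx)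
          rwa [Nat.coprime_self, orderOf_eq_one_iff] at h))
      have hc := (complement_data hQ hpM hsup).card_mul_card
      obtain ⟨R, hR⟩ := hQ.exists_le_sylow
      have hRQ : Q = R := eq_of_le_of_card_ge hR (Nat.le_of_dvd Nat.card_pos
        (Nat.Coprime.dvd_of_dvd_mul_left (by
          obtain ⟨i, hi⟩ := IsPGroup.iff_card.1 R.2
          rw [hi]
          exact Nat.Coprime.pow_left _ (hp.coprime_iff_not_dvd.2 hpM))
          (hc ▸ card_subgroup_dvd_card (R : Subgroup G))))
      have hRn : (R : Subgroup G).Normal := hRQ ▸ inferInstance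
      haveI := Sylow.unique_of_normal R hRn
      rw [Subsingleton.elim P R]
      exact hRn
    haveI := nilpotent_of_dvd h _ hne (by
      obtain ⟨i, hi⟩ := IsPGroup.iff_card.1 hQ
      have hi0 : i ≠ 0 := fun e => hQ1 (eq_bot_of_card_eq Q (by rw [hi, e, pow_zero]))
      exact (dvd_pow_self p hi0).trans (hi ▸ card_dvd_of_le le_normalizer))
    refine mem_centralizer_iff.2 fun q hq => ?_
    obtain ⟨i, hi⟩ := IsPGroup.iff_orderOf.1 hQ ⟨q, hq⟩
    rw [← orderOf_coe] at hi
    exact commute_in (le_normalizer hq) hg (by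
      rw [show orderOf q = p ^ i from hi]; exact Nat.Coprime.pow_left _ hg'.symm)
  obtain ⟨P₀, K, hK, hKc⟩ := hasNormalPComplement_of_localCondition hLC
  haveI := hK
  have hKindex : ¬ p ∣ Nat.card K := by
    rw [← hKc.index_eq_card]; exact P₀.not_dvd_index
  -- M is K, so the Sylow subgroups have order p
  have hMK : M ≤ K := by
    intro m hm
    rw [← QuotientGroup.eq_one_iff, ← orderOf_eq_one_iff]
    refine Nat.eq_one_of_dvd_coprimes (?_ : Nat.Coprime (Nat.card M) (Nat.card P₀)) ?_ ?_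
    · obtain ⟨i, hi⟩ := IsPGroup.iff_card.1 P₀.2
      rw [hi]
      exact (Nat.Coprime.pow_left _ (hp.coprime_iff_not_dvd.2 hpM)).symm
    · refine (orderOf_map_dvd (QuotientGroup.mk' K) m).trans ?_
      rw [← Nat.card_zpowers]
      exact card_dvd_of_le (zpowers_le.2 hm)
    · rw [← hKc.symm.index_eq_card, index_eq_card]
      exact orderOf_dvd_natCard _
  have hKtop : K ≠ ⊤ := fun e => hKindex (by rw [e, card_top]; exact hpG)
  have hKM : K = M := (hM.le_iff.1 hMK).resolve_left hKtop
  have hidx : K.index = p := by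
    obtain ⟨g, hg⟩ := exists_prime_orderOf_dvd_card' p hpG
    have hgK : g ∉ K := fun hgK => hKindex (hg ▸ Subgroup.orderOf_dvd_natCard K hgK)
    have hsup : zpowers g ⊔ K = ⊤ := (hKM ▸ hM).2 _ (lt_of_le_of_ne le_sup_right fun e =>
      hgK (e ▸ mem_sup_left (mem_zpowers g)))
    have h1 : K.index = (K.subgroupOf (zpowers g)).index := by
      rw [← relIndex, ← relIndex_top_right, ← hsup, relIndex_sup_right]
    have h2 : K.index ∣ p := by
      rw [h1, ← hg, ← Nat.card_zpowers]
      exact index_dvd_card _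
    exact ((Nat.dvd_prime hp).1 h2).resolve_left fun e => hKtop (index_eq_one.1 e)
  have hPc : ∀ R : Sylow p G, Nat.card R = p := fun R => by
    rw [Nat.card_congr (R.equiv P₀).toEquiv, ← hKc.symm.index_eq_card, hidx]
  -- some Sylow subgroup of K together with a complement generates G
  by_cases hex : ∃ (q : ℕ) (_ : q.Prime) (Q : Subgroup G) (R : Sylow p G),
      q ≠ p ∧ Q ≤ K ∧ IsPGroup q Q ∧ (R : Subgroup G) ≤ normalizer (Q : Set G) ∧ Q ⊔ (R : Subgroup G) = ⊤
  · obtain ⟨q, hq, Q, R, hqp, hQK, hQq, hRQ, htop⟩ := hex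
    have hKQ : K = Q := by
      refine (eq_of_le_of_card_ge hQK ?_).symm
      haveI : Q.Normal := normalizer_eq_top_iff.1 (eq_top_iff.2 (htop ▸ sup_le le_normalizer hRQ))
      have hc := (isComplement'_of_disjoint_and_mul_eq_univ (H := (R : Subgroup G)) (K := Q)
        (disjoint_iff_inf_le.2 fun x hx => by
          have h : (orderOf x).Coprime (orderOf x) := coprime_orders hp R.2
            (fun hd => hKindex (hd.trans (card_dvd_of_le hQK))) hx.1 hx.2
          rw [Nat.coprime_self, orderOf_eq_one_iff] at h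
          exact mem_bot.2 h)
        (by rw [← Subgroup.mul_normal, sup_comm, htop, coe_top])).card_mul_card
      rw [hPc, ← K.index_mul_card, hidx] at hc
      exact (Nat.eq_of_mul_eq_mul_left hp.pos hc).ge
    refine ⟨hn, fun L hL => ?_⟩
    by_cases hpL : p ∣ Nat.card L
    · exact nilpotent_of_dvd h L hL hpL
    have hLK : L ≤ K := by
      intro m hm
      rw [← QuotientGroup.eq_one_iff, ← orderOf_eq_one_iff]
      refine Nat.eq_one_of_dvd_coprimes (?_ : Nat.Coprime (Nat.card L) p) ?_ ?_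
      · exact (hp.coprime_iff_not_dvd.2 hpL).symm
      · refine (orderOf_map_dvd (QuotientGroup.mk' K) m).trans ?_
        rw [← Nat.card_zpowers]
        exact card_dvd_of_le (zpowers_le.2 hm)
      · rw [← hidx, index_eq_card]
        exact orderOf_dvd_natCard _
    haveI : Fact q.Prime := ⟨hq⟩
    exact (hQq.to_le (hKQ ▸ hLK)).isNilpotent
  · exfalso
    push Not at hex
    apply hPn
    have hC : centralizer ((P : Subgroup G) : Set G) = ⊤ := by
      refine eq_top_of_card_eq _ (Nat.dvd_antisymm (card_subgroup_dvd_card _) ?_)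
      refine (Nat.dvd_iff_prime_pow_dvd_dvd _ _).2 fun q j hq hj => ?_
      haveI : Fact q.Prime := ⟨hq⟩
      by_cases hqp : q = p
      · subst hqp
        haveI : IsCyclic (P : Subgroup G) := isCyclic_of_prime_card (hPc P)
        refine dvd_trans ?_ (card_dvd_of_le (Subgroup.le_centralizer (P : Subgroup G)))
        rw [P.card_eq_multiplicity]
        exact (Nat.Prime.pow_dvd_iff_dvd_ordProj hq Nat.card_pos.ne').1 hj
      obtain ⟨Q₀⟩ : Nonempty (Sylow q K) := inferInstance
      set Q := (Q₀ : Subgroup K).map K.subtype with hQdef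
      have hN : normalizer (Q : Set G) ⊔ K = ⊤ := Sylow.normalizer_sup_eq_top Q₀
      have hpN : p ∣ Nat.card (normalizer (Q : Set G)) := by
        have h1 : K.index = (K.subgroupOf (normalizer (Q : Set G))).index := by
          rw [← relIndex, ← relIndex_top_right, ← hN, relIndex_sup_right]
        rw [← hidx, h1]
        exact index_dvd_card _
      obtain ⟨⟨g, hgN⟩, hg⟩ := exists_prime_orderOf_dvd_card' p hpN
      rw [← orderOf_coe] at hg
      change orderOf g = p at hg
      obtain ⟨R, hR⟩ := IsPGroup.exists_le_sylow (IsPGroup.of_card (n := 1)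
        (show Nat.card (zpowers g) = p ^ 1 by rw [Nat.card_zpowers, hg, pow_one]))
      have hRe : zpowers g = R := eq_of_le_of_card_ge hR (by rw [hPc, Nat.card_zpowers, hg])
      have hRN : (R : Subgroup G) ≤ normalizer (Q : Set G) := hRe ▸ zpowers_le.2 hgN
      have hprop := hex q hq Q R hqp (map_subtype_le _) (Q₀.2.map _) hRN
      haveI := nilpotent_of_dvd h _ hprop ((dvd_of_eq (hPc R).symm).trans (card_dvd_of_le le_sup_right))
      have hQC : Q ≤ centralizer ((R : Subgroup G) : Set G) := fun a ha => mem_centralizer_iff.2 fun b hb =>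
        commute_in (mem_sup_right hb) (mem_sup_left ha) (coprime_orders hp R.2
          (fun hd => hKindex (hd.trans (card_dvd_of_le (map_subtype_le _)))) hb ha)
      obtain ⟨x, hx⟩ := MulAction.exists_smul_eq G R P
      have hxC : Q.map (MulAut.conj x).toMonoidHom ≤ centralizer ((P : Subgroup G) : Set G) := by
        rintro _ ⟨a, ha, rfl⟩
        refine mem_centralizer_iff.2 fun b hb => ?_
        rw [SetLike.mem_coe, ← hx] at hb
        obtain ⟨c, hc, rfl⟩ := hb
        change x * c * x⁻¹ * (x * a * x⁻¹) = x * a * x⁻¹ * (x * c * x⁻¹)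
        calc x * c * x⁻¹ * (x * a * x⁻¹) = x * (c * a) * x⁻¹ := by group
          _ = x * (a * c) * x⁻¹ := by rw [mem_centralizer_iff.1 (hQC ha) c hc]
          _ = x * a * x⁻¹ * (x * c * x⁻¹) := by group
      refine dvd_trans ?_ (card_dvd_of_le hxC)
      rw [card_map_of_injective (MulEquiv.injective _), hQdef, card_map_of_injective K.subtype_injective,
        Q₀.card_eq_multiplicity]
      refine (Nat.Prime.pow_dvd_iff_dvd_ordProj hq Nat.card_pos.ne').1 ?_
      refine Nat.Coprime.dvd_of_dvd_mul_left ?_ (m := K.index) (by rw [index_mul_card]; exact hj)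
      rw [hidx]
      exact Nat.Coprime.pow_left _ ((Nat.coprime_primes hq hp).2 hqp)
    refine ⟨fun a ha g => ?_⟩
    have hg : g ∈ centralizer ((P : Subgroup G) : Set G) := hC.symm ▸ mem_top g
    rw [← mem_centralizer_iff.1 hg a ha, mul_inv_cancel_right]
    exact ha

theorem backward {p : ℕ} (hp : p.Prime) {Z K : Subgroup G} (hZn : Z.Normal) (hKn : K.Normal)
    (hinf : Z ⊓ K = ⊥) (hsup : Z ⊔ K = ⊤) (hZ : Nat.card Z = p) (hK : Cfsg.IsMinimalNonNilpotent K)
    (hpK : ¬ p ∣ Nat.card K) (M : Subgroup G) (hM : IsCoatom M) (hpM : p ∣ Nat.card M) :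
    Group.IsNilpotent M := by
  haveI : Fact p.Prime := ⟨hp⟩
  haveI := hZn
  haveI := hKn
  haveI : IsCyclic Z := isCyclic_of_prime_card hZ
  have hzk : ∀ z ∈ Z, ∀ k ∈ K, z * k = k * z := fun z hz k hk =>
    Subgroup.commute_of_normal_of_disjoint Z K hZn hKn (disjoint_iff.2 hinf) z k hz hk
  have hmem : ∀ g : G, ∃ z ∈ Z, ∃ k ∈ K, z * k = g := by
    intro g
    have hg : g ∈ Z ⊔ K := hsup.symm ▸ mem_top g
    rw [← SetLike.mem_coe, Subgroup.mul_normal] at hg
    obtain ⟨z, hz, k, hk, rfl⟩ := hg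
    exact ⟨z, hz, k, hk, rfl⟩
  have hZc : Z ≤ center G := by
    intro z hz
    rw [mem_center_iff]
    intro g
    obtain ⟨w, hw, k, hk, rfl⟩ := hmem g
    have hwz : w * z = z * w := mem_centralizer_iff.1 (Subgroup.le_centralizer Z hz) w hw
    rw [mul_assoc, ← hzk z hz k hk, ← mul_assoc, hwz, mul_assoc]
  have hZM : Z ≤ M := by
    obtain ⟨⟨g, hgM⟩, hg⟩ := exists_prime_orderOf_dvd_card' p hpM
    rw [← orderOf_coe] at hg
    change orderOf g = p at hg
    obtain ⟨z, hz, k, hk, rfl⟩ := hmem g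
    have hk1 : k = 1 := by
      have hp1 : (z * k) ^ p = 1 := hg ▸ pow_orderOf_eq_one _
      have hzp : z ^ p = 1 := hZ ▸ orderOf_dvd_iff_pow_eq_one.1 (Subgroup.orderOf_dvd_natCard Z hz)
      rw [(show Commute z k from hzk z hz k hk).mul_pow, hzp, one_mul] at hp1
      refine orderOf_eq_one_iff.1 (Nat.eq_one_of_dvd_coprimes (hp.coprime_iff_not_dvd.2 hpK)
        (orderOf_dvd_of_pow_eq_one hp1) (Subgroup.orderOf_dvd_natCard K hk))
    rw [hk1, mul_one] at hg hgM
    have hzz : zpowers z = Z := eq_of_le_of_card_ge (zpowers_le.2 hz) (by rw [Nat.card_zpowers, hg, hZ])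
    exact hzz ▸ zpowers_le.2 hgM
  have hKM : ¬ K ≤ M := fun hle => hM.1 (top_le_iff.1 (hsup ▸ sup_le hZM hle))
  haveI := hK.2 (M.subgroupOf K) fun e => hKM (subgroupOf_eq_top.1 e)
  set f : M →* G ⧸ Z := (QuotientGroup.mk' Z).comp M.subtype with hf
  have hrange : Group.IsNilpotent f.range := by
    let ι : M.subgroupOf K →* f.range :=
      { toFun := fun x => ⟨((x : K) : G), ⟨⟨((x : K) : G), x.2⟩, rfl⟩⟩
        map_one' := rfl
        map_mul' := fun _ _ => rfl }
    refine Group.nilpotent_of_surjective ι ?_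
    rintro ⟨_, ⟨⟨m, hm⟩, rfl⟩⟩
    obtain ⟨z, hz, k, hk, rfl⟩ := hmem m
    refine ⟨⟨⟨k, hk⟩, mem_subgroupOf.2 ((mul_mem_cancel_left (hZM hz)).1 hm)⟩, Subtype.ext ?_⟩
    change (k : G ⧸ Z) = ((z * k : G) : G ⧸ Z)
    rw [QuotientGroup.mk_mul, (QuotientGroup.eq_one_iff z).2 hz, one_mul]
  haveI := hrange
  refine Subgroup.isNilpotent_of_ker_le_center f.rangeRestrict ?_
  rw [MonoidHom.ker_rangeRestrict]
  intro x hx
  exact mem_center_iff.2 fun y => Subtype.ext
    (mem_center_iff.1 (hZc ((QuotientGroup.eq_one_iff (x : G)).1 hx)) y)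

end CfsgLib.MaxNilpotent
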